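import Cfsg.Agent.H745.RvTits
import Cfsg.Agent.H845.CopTits
import Cfsg.Agent.H20.FrobTitsInst
import Cfsg.Agent.H58.Rec.Tools

/-!
# The Tits group is recognized by its element orders: the element orders of the Tits group (helper369)

* `dvd_five`, `dvd_three` : element orders divisible by 5 divide 10, element orders divisible by 3 divide 12;
* `iso13` : 13 is isolated;
* `frob13` : a Frobenius group `13 : 3`.
-/

set_option autoImplicit false

namespace Cfsg.Agent.H369.Ti.Facts

open Subgroup Cfsg Cfsg.Agent.H58.Rec Cfsg.Agent.H455.Isolated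

/-- the orders of the elements commuting with a power of `g` -/
theorem orderOf_dvd_cent {G : Type*} [Group G] (g : G) (k : ℕ) :
    orderOf g ∣ Nat.card (centralizer ({g ^ k} : Set G)) :=
  Subgroup.orderOf_dvd_natCard _ (mem_centralizer_singleton_iff.2 ((Commute.refl g).pow_right k).eq)

/-- the facts on the element orders -/
structure Fs (G : Type*) [Group G] : Prop where
  card : Nat.card G = 17971200
  five : ∀ g : G, 5 ∣ orderOf g → orderOf g ∣ 10
  three : ∀ g : G, 3 ∣ orderOf g → orderOf g ∣ 12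
  iso : Isolated G 13

theorem dvd_five {G : Type*} [Group G] [Finite G] (O : CpAutTits.Row.Out G)
    (hP : ∃ P : Subgroup G, Nat.card P = 25 ∧ ∀ a ∈ P, a ^ 5 = 1) (g : G) (h : 5 ∣ orderOf g) : orderOf g ∣ 10 := by
  obtain ⟨k, hk⟩ := exists_pow_orderOf h
  have h1 := orderOf_dvd_cent g k
  rw [O.cent _ hk] at h1
  -- no elements of order 25
  obtain ⟨P, hP, hP5⟩ := hP
  have h25 : ¬ 25 ∣ orderOf g := by
    intro h25
    obtain ⟨j, hj⟩ := exists_pow_orderOf h25
    have hidx : ¬ 5 ∣ P.index := by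
      intro hd
      have h2 := P.card_mul_index
      rw [hP, O.card] at h2
      obtain ⟨c, hc⟩ := hd
      omega
    obtain ⟨c, hc⟩ := Cfsg.Agent.H20.FrobTits.exists_conj_mem (a := 2) Nat.prime_five (R := P) (by rw [hP]; norm_num)
      hidx (y := g ^ j) (b := 2) (by
        have h3 := pow_orderOf_eq_one (g ^ j)
        rw [hj] at h3
        exact h3)
    have h3 := hP5 _ hc
    have h4 : (g ^ j) ^ 5 = 1 := by
      rw [conj_pow] at h3
      exact conj_eq_one_iff.1 h3
    have h5 := orderOf_dvd_of_pow_eq_one h4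
    rw [hj] at h5
    norm_num at h5
  have h2 : orderOf g ≤ 50 := Nat.le_of_dvd (by norm_num) h1
  generalize orderOf g = n at *
  interval_cases n <;> omega

theorem dvd_three {G : Type*} [Group G] [Finite G] (D : H87.TitsAbs.Dat G) (O : CpAutTits.Row.Out G) (g : G)
    (h : 3 ∣ orderOf g) : orderOf g ∣ 12 := by
  obtain ⟨k, hk⟩ := exists_pow_orderOf h
  have h1 := orderOf_dvd_cent g k
  -- all elements of order 3 are conjugate to `t`
  obtain ⟨c, hc⟩ := isConj_iff.1 (H745.RvTits.isConj_t D O (y := g ^ k) (b := 1) (by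
    have h3 := pow_orderOf_eq_one (g ^ k)
    rw [hk] at h3
    exact h3) (by
    intro h3
    rw [h3, orderOf_one] at hk
    norm_num at hk))
  have h108 : orderOf g ∣ 108 := by
    have h2 : orderOf (c * g * c⁻¹) ∣ Nat.card (centralizer ({D.t} : Set G)) := by
      refine Subgroup.orderOf_dvd_natCard _ (mem_centralizer_singleton_iff.2 ?_)
      rw [← hc]
      have h3 : g * g ^ k = g ^ k * g := ((Commute.refl g).pow_right k).eq
      calc c * g * c⁻¹ * (c * g ^ k * c⁻¹) = c * (g * g ^ k) * c⁻¹ := by group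
        _ = c * (g ^ k * g) * c⁻¹ := by rw [h3]
        _ = c * g ^ k * c⁻¹ * (c * g * c⁻¹) := by group
    rw [H745.RvTits.card_cent_t D O] at h2
    have h4 : c * g * c⁻¹ = MulAut.conj c g := rfl
    rwa [h4, MulEquiv.orderOf_eq] at h2
  have h9 : ¬ 9 ∣ orderOf g := by
    intro h9
    obtain ⟨j, hj⟩ := exists_pow_orderOf h9
    have h3 := H745.RvTits.cube D O (y := g ^ j) (b := 2) (by
      have h3 := pow_orderOf_eq_one (g ^ j)
      rw [hj] at h3
      exact h3)
    have h5 := orderOf_dvd_of_pow_eq_one h3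
    rw [hj] at h5
    norm_num at h5
  have h2 : orderOf g ≤ 108 := Nat.le_of_dvd (by norm_num) h108
  generalize orderOf g = n at *
  interval_cases n <;> omega

theorem iso13 {G : Type*} [Group G] [Finite G] (D : H87.TitsAbs.Dat G) (hc : Nat.card G = 17971200)
    (h13 : Nat.card (centralizer ({D.x} : Set G)) = 13) : Isolated G 13 := by
  rw [isolated_iff]
  rintro s hs hs13 ⟨g, hg⟩
  have hf : Fact (Nat.Prime 13) := ⟨by norm_num⟩
  have h1 : 13 ∣ orderOf g := by rw [hg]; exact dvd_mul_right 13 s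
  obtain ⟨k, hk⟩ := exists_pow_orderOf h1
  have hx : orderOf D.x = 13 := orderOf_eq_prime D.x13 D.x1
  have hZ : Nat.card (zpowers D.x) = 13 := by rw [Nat.card_zpowers, hx]
  have hidx : ¬ 13 ∣ (zpowers D.x).index := by
    intro hd
    have h2 := (zpowers D.x).card_mul_index
    rw [hZ, hc] at h2
    obtain ⟨c, hc⟩ := hd
    omega
  obtain ⟨c, hcm⟩ := Cfsg.Agent.H20.FrobTits.exists_conj_mem (a := 1) (by norm_num : Nat.Prime 13)
    (R := zpowers D.x) (by rw [hZ]; norm_num) hidx (y := g ^ k) (b := 1) (by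
      have h3 := pow_orderOf_eq_one (g ^ k)
      rw [hk] at h3
      exact h3)
  -- `x` is a power of the conjugate
  have hxz : D.x ∈ zpowers (c * g ^ k * c⁻¹) := by
    have h2 : zpowers (c * g ^ k * c⁻¹) = zpowers D.x := by
      apply eq_of_le_of_card_ge
      · rw [zpowers_le]; exact hcm
      · rw [Nat.card_zpowers, Nat.card_zpowers, hx]
        have h4 : c * g ^ k * c⁻¹ = MulAut.conj c (g ^ k) := rfl
        rw [h4, MulEquiv.orderOf_eq, hk]
    rw [h2]
    exact mem_zpowers _
  have h2 : orderOf (c * g * c⁻¹) ∣ Nat.card (centralizer ({D.x} : Set G)) := by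
    refine Subgroup.orderOf_dvd_natCard _ (mem_centralizer_singleton_iff.2 ?_)
    obtain ⟨i, hi⟩ := mem_zpowers_iff.1 hxz
    have h3 : Commute (c * g * c⁻¹) (c * g ^ k * c⁻¹) := by
      have h3 : g * g ^ k = g ^ k * g := ((Commute.refl g).pow_right k).eq
      show c * g * c⁻¹ * (c * g ^ k * c⁻¹) = c * g ^ k * c⁻¹ * (c * g * c⁻¹)
      calc c * g * c⁻¹ * (c * g ^ k * c⁻¹) = c * (g * g ^ k) * c⁻¹ := by group
        _ = c * (g ^ k * g) * c⁻¹ := by rw [h3]
        _ = c * g ^ k * c⁻¹ * (c * g * c⁻¹) := by group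
    rw [← hi]
    exact (h3.zpow_right i).eq
  have h4 : c * g * c⁻¹ = MulAut.conj c g := rfl
  rw [h13, h4, MulEquiv.orderOf_eq, hg] at h2
  have h5 : 13 * s ∣ 13 * 1 := by simpa using h2
  have h6 : s ∣ 1 := Nat.dvd_of_mul_dvd_mul_left (by norm_num) h5
  exact hs.one_lt.ne' (Nat.dvd_one.1 h6)

theorem fs_of {G : Type*} [Group G] [Finite G] (D : H87.TitsAbs.Dat G) (O : CpAutTits.Row.Out G)
    (hP : ∃ P : Subgroup G, Nat.card P = 25 ∧ ∀ a ∈ P, a ^ 5 = 1)
    (h13 : Nat.card (centralizer ({D.x} : Set G)) = 13) : Fs G :=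
  have hc : Nat.card G = 17971200 := O.card.trans (by norm_num)
  ⟨hc, dvd_five O hP, dvd_three D O, iso13 D hc h13⟩

theorem iso_refl : Cfsg.Lie.IsoTits Cfsg.Lie.TitsGroup := ⟨MulEquiv.refl _⟩

theorem card_x [Finite Cfsg.Lie.TitsGroup] (D : H87.TitsAbs.Dat Cfsg.Lie.TitsGroup) :
    Nat.card (centralizer ({D.x} : Set Cfsg.Lie.TitsGroup)) = 13 := H845.CopTits.card_cent_x iso_refl D

/-- **The Tits group.** -/
theorem fs : Fs Cfsg.Lie.TitsGroup := by
  have O : CpAutTits.Row.Out Cfsg.Lie.TitsGroup := CpAutTits.Row.out iso_refl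
  have hfin : Finite Cfsg.Lie.TitsGroup := Nat.finite_of_card_ne_zero (by rw [O.card]; norm_num)
  obtain ⟨D⟩ := H87.TitsData.dat_tits
  have h13 := card_x D
  have hP := Cfsg.Agent.H20.FrobTitsInst.exists_P
  exact fs_of D O hP h13

/-- `13 : 3` -/
theorem frob13 {G : Type*} [Group G] [Finite G] (h : Fs G) : HasFrob G 13 3 :=
  (hasFrob_of_isolated (N := 17971200) (e := 6) (by norm_num) h.card h.iso (by norm_num) (by norm_num) (by norm_num)
    (by decide +kernel)).of_dvd (by norm_num)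

end Cfsg.Agent.H369.Ti.Facts
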