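import Cfsg.Agent.H369.Ti.Comp
import Cfsg.Agent.H58.Rec.Tools

/-!
# The Tits group is recognized by its element orders: the reduction (helper369)

* `main` : the reduction of `H455.Isolated` with the hypothesis that the isolated prime `r` does not divide the order of the
  solvable radical (the proof is copied from there);
* `exists_red` : the reduced situation `Red π S 13`.
-/

set_option autoImplicit false

namespace Cfsg.Agent.H369.Ti.Red

open Subgroup
open Cfsg.Agent.H455.Isolated Cfsg.Agent.H58.Rec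
open scoped commutatorElement

universe u

section Radical

variable {G : Type*} [Group G] [Finite G] {r : ℕ}

/-- **Reduction for one isolated prime not dividing the order of the radical.** -/
theorem main {K : Subgroup G} [K.Normal] (hKs : Group.IsSolvable K)
    (hKmax : ∀ N : Subgroup G, N.Normal → Group.IsSolvable N → N ≤ K)
    (h : Isolated G r) (hr : r.Prime) (hrG : r ∣ Nat.card G) (hrK : ¬ r ∣ Nat.card K) :
    Group.IsNilpotent K ∧
      ∃ M : Subgroup (G ⧸ K), M.Normal ∧ IsSimpleGroup M ∧ ¬ IsMulCommutative M ∧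
        r ∣ Nat.card M ∧ centralizer (M : Set (G ⧸ K)) = ⊥ ∧
        ∀ N : Subgroup (G ⧸ K), N.Normal → N ≠ ⊥ → M ≤ N := by
  have hfr : Fact r.Prime := ⟨hr⟩
  refine ⟨isNilpotent_of_normal h hr hrG K hrK, ?_⟩
  have hQ := h.quotient K
  have hrQ : r ∣ Nat.card (G ⧸ K) := by
    have h1 := Subgroup.card_eq_card_quotient_mul_card_subgroup K
    rw [h1] at hrG
    exact (hr.dvd_mul.mp hrG).resolve_right hrK
  have hsol : ∀ N : Subgroup (G ⧸ K), N.Normal → Group.IsSolvable N → N = ⊥ := fun N hNn hN =>
    eq_bot_of_isSolvable hKs hKmax N hN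
  -- every nontrivial normal subgroup has order divisible by `r` and another prime
  have hdvd : ∀ N : Subgroup (G ⧸ K), N.Normal → N ≠ ⊥ → r ∣ Nat.card N := by
    intro N hNn hN1
    by_contra hcon
    apply hN1
    have := isNilpotent_of_normal hQ hr hrQ N hcon
    exact hsol N hNn inferInstance
  have hdvd' : ∀ N : Subgroup (G ⧸ K), N.Normal → N ≠ ⊥ →
      ∃ s : ℕ, s.Prime ∧ s ≠ r ∧ s ∣ Nat.card N := by
    intro N hNn hN1
    by_contra hcon
    push Not at hcon
    apply hN1
    have h1 : Nat.card N = r ^ (Nat.card N).primeFactorsList.length := by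
      apply Nat.eq_prime_pow_of_unique_prime_dvd Nat.card_pos.ne'
      intro s hs hsN
      by_contra hsr
      exact hcon s hs hsr hsN
    have h2 : IsPGroup r N := IsPGroup.of_card h1
    have h3 : Group.IsNilpotent N := h2.isNilpotent
    exact hsol N hNn inferInstance
  -- two of them do not commute
  have hnc : ∀ M N : Subgroup (G ⧸ K), M.Normal → N.Normal → M ≠ ⊥ → N ≠ ⊥ →
      ¬ ∀ x ∈ M, ∀ z ∈ N, x * z = z * x := by
    intro M N hM hN hM1 hN1 hc
    obtain ⟨s, hs, hsr, hsN⟩ := hdvd' N hN hN1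
    have hfs : Fact s.Prime := ⟨hs⟩
    obtain ⟨⟨x, hxM⟩, hx⟩ := exists_prime_orderOf_dvd_card' r (hdvd M hM hM1)
    obtain ⟨⟨z, hzN⟩, hz⟩ := exists_prime_orderOf_dvd_card' s hsN
    have hx' : orderOf x = r := by rw [← hx, ← Subgroup.orderOf_coe]
    have hz' : orderOf z = s := by rw [← hz, ← Subgroup.orderOf_coe]
    have h1 := eq_one_of_commute' hQ hr hx' (show Commute x z from hc x hxM z hzN) (by
      rw [hz']
      intro hd
      exact hsr ((Nat.prime_dvd_prime_iff_eq hr hs).mp hd).symm)
    rw [h1, orderOf_one] at hz'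
    exact hs.one_lt.ne hz'
  have hnt : (⊤ : Subgroup (G ⧸ K)) ≠ ⊥ := by
    intro h1
    have h3 : Nat.card (G ⧸ K) = 1 := by
      rw [← Subgroup.card_top, h1, Subgroup.card_bot]
    rw [h3] at hrQ
    exact hr.one_lt.ne' (Nat.dvd_one.mp hrQ)
  obtain ⟨M, -, hM1, hMn, hMmin⟩ := Cfsg.Agent.Lib.MinNormal.exists_minimal_normal_le
    (⊤ : Subgroup (G ⧸ K)) hnt
  have hMnorm : M.Normal := normalizer_eq_top_iff.mp (top_le_iff.mp hMn)
  have hMmin' : ∀ L : Subgroup (G ⧸ K), L.Normal → L ≤ M → L = ⊥ ∨ L = M := fun L hL hLM =>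
    hMmin L hLM (by rw [normalizer_eq_top_iff.mpr hL])
  have hMns : ¬ Group.IsSolvable M := fun hs => hM1 (hsol M hMnorm hs)
  have hMna : ¬ IsMulCommutative M := by
    intro hc
    apply hMns
    exact Group.isSolvable_of_comm (fun a b => hc.is_comm.comm a b)
  refine ⟨M, hMnorm, ?_, hMna, hdvd M hMnorm hM1, ?_, ?_⟩
  · -- simplicity
    obtain ⟨T, m, _, hT, hm, ⟨e⟩⟩ := Cfsg.Agent.Lib.MinNormal.exists_mulEquiv_pi M hM1 hMmin'
    have hT := hT
    rcases Nat.lt_or_ge m 2 with hm2 | hm2
    · have hm1 : m = 1 := by omega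
      subst hm1
      exact (e.trans (MulEquiv.funUnique (Fin 1) T)).isSimpleGroup
    · exfalso
      have hTfin : Finite T := by
        have : Finite (Fin m → T) := Finite.of_equiv M e.toEquiv
        exact Finite.of_injective (fun t : T => (fun _ : Fin m => t)) (fun a b hab =>
          congrFun hab ⟨0, by omega⟩)
      have hcard : Nat.card M = Nat.card T ^ m := by
        rw [Nat.card_congr e.toEquiv, Nat.card_fun]
        simp
      have hrT : r ∣ Nat.card T := by
        have := hdvd M hMnorm hM1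
        rw [hcard] at this
        exact hr.dvd_of_dvd_pow this
      obtain ⟨s, hs, hsr, hsM⟩ := hdvd' M hMnorm hM1
      rw [hcard] at hsM
      have hsT := hs.dvd_of_dvd_pow hsM
      have hfs : Fact s.Prime := ⟨hs⟩
      obtain ⟨a, ha⟩ := exists_prime_orderOf_dvd_card' r hrT
      obtain ⟨b, hb⟩ := exists_prime_orderOf_dvd_card' s hsT
      let i : Fin m := ⟨0, by omega⟩
      let j : Fin m := ⟨1, by omega⟩
      have hij : i ≠ j := by
        intro hij
        have := congrArg Fin.val hij
        simp [i, j] at this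
      have hord : ∀ (k : Fin m) (t : T), orderOf (Pi.mulSingle k t : Fin m → T) = orderOf t := by
        intro k t
        exact orderOf_injective (MonoidHom.mulSingle (fun _ : Fin m => T) k)
          (Pi.mulSingle_injective (M := fun _ : Fin m => T) k) t
      have hc : Commute (Pi.mulSingle i a : Fin m → T) (Pi.mulSingle j b : Fin m → T) :=
        Pi.mulSingle_commute (f := fun _ : Fin m => T) hij a b
      have hQ' : Isolated (Fin m → T) r :=
        hQ.of_injective (M.subtype.comp e.symm.toMonoidHom)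
          (M.subtype_injective.comp e.symm.injective)
      have h1 := eq_one_of_commute' hQ' hr ((hord i a).trans ha) hc (by
        rw [hord, hb]
        intro hd
        exact hsr ((Nat.prime_dvd_prime_iff_eq hr hs).mp hd).symm)
      have h2 : orderOf (Pi.mulSingle j b : Fin m → T) = 1 := by rw [h1, orderOf_one]
      rw [hord, hb] at h2
      exact hs.one_lt.ne' h2
  · by_contra hcon
    exact hnc M (centralizer (M : Set (G ⧸ K))) hMnorm inferInstance hM1 hcon
      (fun x hx z hz => mem_centralizer_iff.mp hz x hx)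
  · intro N hN hN1
    have h1 : M ⊓ N ≠ ⊥ := by
      intro h1
      apply hnc M N hMnorm hN hM1 hN1
      intro x hx z hz
      have h3 : ⁅x, z⁆ ∈ M ⊓ N := by
        refine ⟨?_, ?_⟩
        · show x * z * x⁻¹ * z⁻¹ ∈ M
          have : x * z * x⁻¹ * z⁻¹ = x * (z * x⁻¹ * z⁻¹) := by group
          rw [this]
          exact M.mul_mem hx (hMnorm.conj_mem _ (M.inv_mem hx) z)
        · show x * z * x⁻¹ * z⁻¹ ∈ N
          exact N.mul_mem (hN.conj_mem z hz x) (N.inv_mem hz)
      rw [h1, mem_bot, commutatorElement_eq_one_iff_mul_comm] at h3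
      exact h3
    rcases hMmin' (M ⊓ N) inferInstance inf_le_left with h3 | h3
    · exact absurd h3 h1
    · rw [← h3]
      exact inf_le_right

end Radical

/-- **The reduced situation.** -/
theorem exists_red {G : Type u} [Group G] [Finite G] (hG : ¬ Group.IsSolvable G) (h : Isolated G 13)
    (h13 : 13 ∣ Nat.card G) (hpr : ∀ p : ℕ, p.Prime → p ∣ Nat.card G → p ∈ [2, 3, 5, 13]) (h16 : HasOrd G 16) :
    ∃ (X : Type u) (_ : Group X) (_ : Finite X) (π : G →* X) (S : Subgroup X), Red π S 13 := by
  obtain ⟨K, hKn, hKs, hKmax⟩ :=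
    Cfsg.Agent.SignalizersComponents.ComponentExists.exists_solvableRadical G
  have hrK := Cfsg.Agent.H369.Ti.Comp.not_dvd_rad hG h hpr h16 K hKs
  obtain ⟨hKnil, S, hSn, hSs, hSna, hrS, hSc, hSmin⟩ := main hKs hKmax h (by norm_num) h13 hrK
  exact ⟨G ⧸ K, inferInstance, inferInstance, QuotientGroup.mk' K, S,
    ⟨QuotientGroup.mk'_surjective K, by rw [QuotientGroup.ker_mk']; exact hKnil, hSn, hSs, hSna, hSc, hSmin,
      by norm_num, hrS, by rw [QuotientGroup.ker_mk']; exact hrK, h⟩⟩

end Cfsg.Agent.H369.Ti.Red
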